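import Mathlib
import Groth.Agent.Lib.Helper5.VR.C

/-!
# Local rings of unramified flat algebras over a valuation ring

`A` a valuation ring, `R` a flat, essentially of finite type, formally unramified `A`-algebra.
* `flat_ideal`: every ideal of `R` is a flat `R`-module.
* `valuationRing_atPrime`: every local ring of `R` is a valuation ring.
* `exists_unit_mul`: if `R = V` is local and `A → V` is local, then every nonzero element of `V`
  is a unit times the image of an element of `A` (weakly unramified).
-/

set_option autoImplicit false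
universe u v

namespace Groth.Agent.H8.EtVal

open TensorProduct

theorem exists_dvd_all {V : Type*} [CommRing V] [IsDomain V] [ValuationRing V] {ι : Type*}
    (s : Finset ι) (hs : s.Nonempty) (v : ι → V) :
    ∃ i ∈ s, ∀ j ∈ s, v i ∣ v j := by
  induction hs using Finset.Nonempty.cons_induction with
  | singleton a =>
    exact ⟨a, Finset.mem_singleton_self a, fun j hj => by rw [Finset.mem_singleton.mp hj]⟩
  | cons a s ha hs ih =>
    obtain ⟨i, his, hi⟩ := ih
    rcases ValuationRing.dvd_total (v a) (v i) with h | h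
    · refine ⟨a, Finset.mem_cons_self a s, fun j hj => ?_⟩
      rcases Finset.mem_cons.mp hj with rfl | hj
      · exact dvd_rfl
      · exact h.trans (hi j hj)
    · refine ⟨i, Finset.mem_cons.mpr (Or.inr his), fun j hj => ?_⟩
      rcases Finset.mem_cons.mp hj with rfl | hj
      · exact h
      · exact hi j hj

section G

variable {A : Type u} [CommRing A] [IsDomain A] [ValuationRing A]
variable {R : Type v} [CommRing R] [Algebra A R] [Module.Flat A R] [Algebra.EssFiniteType A R]
  [Algebra.FormallyUnramified A R]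

include A in
theorem flat_ideal (I : Ideal R) : Module.Flat R I := by
  haveI : Module.IsTorsionFree A I :=
    Function.Injective.moduleIsTorsionFree (Subtype.val : I → R) Subtype.val_injective
      (fun r m => rfl)
  haveI : Module.Flat A I := by
    rw [Module.Flat.flat_iff_torsion_eq_bot_of_isBezout,
      ← Submodule.isTorsionFree_iff_torsion_eq_bot]
    infer_instance
  exact Algebra.FormallyUnramified.flat_of_restrictScalars (R := A) (S := R) I

include A in
theorem valuationRing_atPrime (p : Ideal R) [p.IsPrime] :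
    ∃ _ : IsDomain (Localization.AtPrime p), ValuationRing (Localization.AtPrime p) :=
  Groth.Agent.H5.VR.valuationRing_localization (fun I _ => flat_ideal (A := A) I) p

include A in
theorem isDomain_of_isLocalRing [IsLocalRing R] : IsDomain R :=
  Groth.Agent.H5.VR.isDomain_of_fg_flat (fun I _ => flat_ideal (A := A) I)

include A in
theorem valuationRing_of_isLocalRing [IsLocalRing R] [IsDomain R] : ValuationRing R :=
  Groth.Agent.H5.VR.valuationRing_of_fg_flat (fun I _ => flat_ideal (A := A) I)

theorem algebraMap_injective [Nontrivial R] : Function.Injective (algebraMap A R) := by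
  rw [injective_iff_map_eq_zero]
  intro a ha
  rw [Algebra.algebraMap_eq_smul_one] at ha
  rcases smul_eq_zero.mp ha with h | h
  · exact h
  · exact absurd h one_ne_zero

theorem exists_polynomial (x : R) : ∃ p : Polynomial A, p ≠ 0 ∧ Polynomial.aeval x p = 0 := by
  let K := FractionRing A
  haveI : Module.Finite K (K ⊗[A] R) := Algebra.FormallyUnramified.finite_of_free K (K ⊗[A] R)
  have h1 : IsAlgebraic K ((1 : K) ⊗ₜ[A] x) :=
    (Algebra.IsIntegral.isIntegral (R := K) ((1 : K) ⊗ₜ[A] x)).isAlgebraic
  have h2 : IsAlgebraic A ((1 : K) ⊗ₜ[A] x) :=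
    (IsFractionRing.isAlgebraic_iff A K (K ⊗[A] R)).mpr h1
  obtain ⟨p, hp, hpx⟩ := h2
  refine ⟨p, hp, ?_⟩
  have hinj : Function.Injective (Algebra.TensorProduct.includeRight : R →ₐ[A] K ⊗[A] R) :=
    Algebra.TensorProduct.includeRight_injective (IsFractionRing.injective A K)
  apply hinj
  rw [map_zero, ← Polynomial.aeval_algHom_apply]
  exact hpx

end G

section pow

variable {A : Type u} [CommRing A] [IsDomain A] [ValuationRing A]
variable {V : Type v} [CommRing V] [IsDomain V] [ValuationRing V] [Algebra A V]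

theorem exists_pow_eq_aux (hinj : Function.Injective (algebraMap A V)) (β : V) (hβ : β ≠ 0)
    (a a' : A) (ha : a ≠ 0) (ha' : a' ≠ 0) (i j : ℕ) (hij : i < j) (w : Vˣ)
    (h : algebraMap A V a * β ^ i = w * algebraMap A V a' * β ^ j) :
    ∃ (e : ℕ) (c : A) (w' : Vˣ), 0 < e ∧ β ^ e = w' * algebraMap A V c := by
  obtain ⟨e, rfl⟩ : ∃ e, j = i + e := ⟨j - i, by omega⟩
  have he : 0 < e := by omega
  have hβi : β ^ i ≠ 0 := pow_ne_zero _ hβ
  have h1 : algebraMap A V a = w * algebraMap A V a' * β ^ e := by
    apply mul_left_cancel₀ hβi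
    rw [pow_add] at h
    calc β ^ i * algebraMap A V a = algebraMap A V a * β ^ i := mul_comm _ _
      _ = w * algebraMap A V a' * (β ^ i * β ^ e) := h
      _ = β ^ i * (w * algebraMap A V a' * β ^ e) := by ring
  have hma : algebraMap A V a ≠ 0 := fun h0 => ha (hinj (by rw [h0, map_zero]))
  have hma' : algebraMap A V a' ≠ 0 := fun h0 => ha' (hinj (by rw [h0, map_zero]))
  rcases ValuationRing.dvd_total a' a with ⟨c, hc⟩ | ⟨c, hc⟩
  · -- a = a' * c
    refine ⟨e, c, w⁻¹, he, ?_⟩
    have h2 : algebraMap A V a' * algebraMap A V c = algebraMap A V a' * (w * β ^ e) := by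
      rw [← map_mul, ← hc, h1]; ring
    have h3 := mul_left_cancel₀ hma' h2
    rw [h3, ← mul_assoc, Units.inv_mul, one_mul]
  · -- a' = a * c
    have h2 : algebraMap A V a * 1 = algebraMap A V a * (w * algebraMap A V c * β ^ e) := by
      rw [mul_one]
      conv_lhs => rw [h1, hc, map_mul]
      ring
    have h3 := mul_left_cancel₀ hma h2
    have hu : IsUnit (β ^ e) := IsUnit.of_mul_eq_one (w * algebraMap A V c) (by rw [mul_comm]; exact h3.symm)
    have huβ : IsUnit β := (isUnit_pow_iff (by omega)).mp hu
    exact ⟨1, 1, huβ.unit, one_pos, by simp⟩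

theorem exists_pow_eq [IsLocalRing V] (hinj : Function.Injective (algebraMap A V)) (β : V) (hβ : β ≠ 0)
    (p : Polynomial A) (hp : p ≠ 0) (h0 : Polynomial.aeval β p = 0) :
    ∃ (e : ℕ) (c : A) (w : Vˣ), 0 < e ∧ β ^ e = w * algebraMap A V c := by
  classical
  obtain ⟨x, hx⟩ : ∃ x : ℕ → V, x = fun i => algebraMap A V (p.coeff i) * β ^ i := ⟨_, rfl⟩
  have hsum : ∑ i ∈ p.support, x i = 0 := by
    rw [Polynomial.aeval_def, Polynomial.eval₂_eq_sum, Polynomial.sum_def] at h0
    rw [hx]
    exact h0
  have hne : p.support.Nonempty := Polynomial.support_nonempty.mpr hp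
  have hxne : ∀ i ∈ p.support, x i ≠ 0 := by
    intro i hi
    rw [hx]
    refine mul_ne_zero (fun h => ?_) (pow_ne_zero _ hβ)
    exact (Polynomial.mem_support_iff.mp hi) (hinj (by rw [h, map_zero]))
  obtain ⟨i0, hi0, hdvd⟩ := exists_dvd_all p.support hne x
  choose! y hy using hdvd
  have hy0 : y i0 = 1 := by
    have := hy i0 hi0
    have h2 : x i0 * 1 = x i0 * y i0 := by rw [mul_one]; exact this
    exact (mul_left_cancel₀ (hxne i0 hi0) h2).symm
  have hsum2 : ∑ i ∈ p.support, y i = 0 := by
    have : x i0 * ∑ i ∈ p.support, y i = 0 := by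
      rw [Finset.mul_sum, ← hsum]
      exact Finset.sum_congr rfl fun i hi => (hy i hi).symm
    rcases mul_eq_zero.mp this with h | h
    · exact absurd h (hxne i0 hi0)
    · exact h
  obtain ⟨i, hi, hii0, hunit⟩ : ∃ i ∈ p.support, i ≠ i0 ∧ IsUnit (y i) := by
    by_contra hcon
    push Not at hcon
    have hmem : ∑ i ∈ p.support.erase i0, y i ∈ IsLocalRing.maximalIdeal V := by
      refine Ideal.sum_mem _ fun i hi => ?_
      rw [Finset.mem_erase] at hi
      exact (IsLocalRing.mem_maximalIdeal _).mpr (hcon i hi.2 hi.1)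
    rw [← Finset.add_sum_erase _ _ hi0, hy0] at hsum2
    have h1 : (1 : V) = -∑ i ∈ p.support.erase i0, y i := by
      rw [eq_neg_iff_add_eq_zero]; exact hsum2
    have : (1 : V) ∈ IsLocalRing.maximalIdeal V := by
      rw [h1]; exact neg_mem hmem
    exact (IsLocalRing.maximalIdeal.isMaximal V).ne_top ((Ideal.eq_top_iff_one _).mpr this)
  have hrel : x i = x i0 * y i := hy i hi
  rw [hx] at hrel
  simp only at hrel
  have hci : p.coeff i ≠ 0 := Polynomial.mem_support_iff.mp hi
  have hci0 : p.coeff i0 ≠ 0 := Polynomial.mem_support_iff.mp hi0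
  rcases lt_or_gt_of_ne hii0 with hlt | hlt
  · exact exists_pow_eq_aux hinj β hβ _ _ hci hci0 i i0 hlt hunit.unit (by
      rw [hrel, IsUnit.unit_spec]; ring)
  · refine exists_pow_eq_aux hinj β hβ _ _ hci0 hci i0 i hlt hunit.unit⁻¹ ?_
    rw [mul_assoc, hrel]
    have : (↑hunit.unit⁻¹ : V) * y i = 1 := by
      exact hunit.val_inv_mul
    calc algebraMap A V (p.coeff i0) * β ^ i0
        = (↑hunit.unit⁻¹ * y i) * (algebraMap A V (p.coeff i0) * β ^ i0) := by rw [this, one_mul]
      _ = ↑hunit.unit⁻¹ * (algebraMap A V (p.coeff i0) * β ^ i0 * y i) := by ring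

end pow

end Groth.Agent.H8.EtVal
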