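import Mathlib
import Groth.Agent.Lib.Helper8.EtVal.Basic

/-!
# Weak unramifiedness of local unramified flat extensions of valuation rings
-/

set_option autoImplicit false
universe u v

namespace Groth.Agent.H8.EtVal

open TensorProduct

section W

variable {A : Type u} [CommRing A] [IsDomain A] [ValuationRing A]
variable {V : Type v} [CommRing V] [Algebra A V] [Module.Flat A V]
  [Algebra.EssFiniteType A V] [Algebra.FormallyUnramified A V]

/-- the key: `1 ⊗ β ∈ (β ⊗ 1)` in `V ⊗ V`. -/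
theorem one_tmul_mem_span (β : V) (e : ℕ) (he : 0 < e) (c : A) (w : Vˣ)
    (hpow : β ^ e = w * algebraMap A V c) :
    ((1 : V) ⊗ₜ[A] β) ∈ Ideal.span {(β ⊗ₜ[A] (1 : V) : V ⊗[A] V)} := by
  haveI : Algebra.EssFiniteType A (V ⊗[A] V) := Algebra.EssFiniteType.comp A V (V ⊗[A] V)
  haveI : Algebra.FormallyUnramified A (V ⊗[A] V) :=
    Algebra.FormallyUnramified.comp A V (V ⊗[A] V)
  haveI : Module.Flat A (V ⊗[A] V) := Module.Flat.trans A V (V ⊗[A] V)
  obtain ⟨x, hx⟩ : ∃ x : V ⊗[A] V, x = β ⊗ₜ[A] (1 : V) := ⟨_, rfl⟩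
  obtain ⟨y, hy⟩ : ∃ y : V ⊗[A] V, y = (1 : V) ⊗ₜ[A] β := ⟨_, rfl⟩
  obtain ⟨u1, hu1⟩ : ∃ u1 : V ⊗[A] V, u1 = (w : V) ⊗ₜ[A] (1 : V) := ⟨_, rfl⟩
  obtain ⟨u2, hu2⟩ : ∃ u2 : V ⊗[A] V, u2 = (1 : V) ⊗ₜ[A] (w : V) := ⟨_, rfl⟩
  have hu1u : IsUnit u1 := by
    rw [hu1]
    exact w.isUnit.map (Algebra.TensorProduct.includeLeft : V →ₐ[A] V ⊗[A] V)
  have hu2u : IsUnit u2 := by
    rw [hu2]
    exact w.isUnit.map (Algebra.TensorProduct.includeRight : V →ₐ[A] V ⊗[A] V)
  have hrel : u2 * x ^ e = u1 * y ^ e := by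
    rw [hu1, hu2, hx, hy, Algebra.TensorProduct.tmul_pow, Algebra.TensorProduct.tmul_pow,
      Algebra.TensorProduct.tmul_mul_tmul, Algebra.TensorProduct.tmul_mul_tmul, one_pow]
    simp only [one_mul, mul_one]
    rw [hpow, Algebra.algebraMap_eq_smul_one, mul_smul_comm, mul_one, TensorProduct.smul_tmul]
  rw [← hx, ← hy]
  have hle : Ideal.span {y} ≤ Ideal.span {x} := by
    apply Ideal.le_of_localization_maximal
    intro P hP
    obtain ⟨hdom, hval⟩ := valuationRing_atPrime (A := A) (R := V ⊗[A] V) P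
    rw [Ideal.map_span, Ideal.map_span, Set.image_singleton, Set.image_singleton,
      Ideal.span_singleton_le_span_singleton]
    obtain ⟨f, hf⟩ : ∃ f : (V ⊗[A] V) →+* Localization.AtPrime P,
      f = algebraMap (V ⊗[A] V) (Localization.AtPrime P) := ⟨_, rfl⟩
    rw [← hf]
    have hrel' : f u2 * f x ^ e = f u1 * f y ^ e := by
      rw [← map_pow, ← map_pow, ← map_mul, ← map_mul, hrel]
    have hfu1 : IsUnit (f u1) := hu1u.map f
    have hfu2 : IsUnit (f u2) := hu2u.map f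
    rcases ValuationRing.dvd_total (f x) (f y) with h | ⟨z, hz⟩
    · exact h
    · by_cases hy0 : f y = 0
      · rw [hy0]; exact dvd_zero _
      · have h1 : f y ^ e * (f u2 * z ^ e) = f y ^ e * f u1 := by
          rw [hz, mul_pow] at hrel'
          calc f y ^ e * (f u2 * z ^ e) = f u2 * (f y ^ e * z ^ e) := by ring
            _ = f u1 * f y ^ e := hrel'
            _ = f y ^ e * f u1 := by ring
        have h2 := mul_left_cancel₀ (pow_ne_zero e hy0) h1
        have h3 : IsUnit (z ^ e) := by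
          have : IsUnit (f u2 * z ^ e) := by rw [h2]; exact hfu1
          exact isUnit_of_mul_isUnit_right this
        have h4 : IsUnit z := (isUnit_pow_iff (by omega)).mp h3
        refine ⟨↑h4.unit⁻¹, ?_⟩
        rw [hz, mul_assoc, h4.mul_val_inv, mul_one]
  exact hle (Ideal.subset_span rfl)

/-- Weak unramifiedness. -/
theorem exists_unit_mul [IsLocalRing V] [IsLocalHom (algebraMap A V)] (β : V) (hβ : β ≠ 0) :
    ∃ (a : A) (u : Vˣ), β = u * algebraMap A V a := by
  haveI : IsDomain V := isDomain_of_isLocalRing (A := A) (R := V)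
  haveI : ValuationRing V := valuationRing_of_isLocalRing (A := A) (R := V)
  have hinj : Function.Injective (algebraMap A V) := algebraMap_injective
  obtain ⟨p, hp, h0⟩ := exists_polynomial (A := A) β
  obtain ⟨e, c, w, he, hpow⟩ := exists_pow_eq hinj β hβ p hp h0
  have hmem := one_tmul_mem_span (A := A) β e he c w hpow
  obtain ⟨τ, hτ⟩ := Ideal.mem_span_singleton'.mp hmem
  -- descent
  obtain ⟨J, hJ⟩ : ∃ J : Submodule A V, J = (Ideal.span {β} : Ideal V).restrictScalars A :=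
    ⟨_, rfl⟩
  obtain ⟨I, hI⟩ : ∃ I : Ideal A, I = (Ideal.span {β} : Ideal V).comap (algebraMap A V) :=
    ⟨_, rfl⟩
  have hIJ : I ≤ J.comap (Algebra.linearMap A V) := by
    intro a ha
    rw [hI] at ha
    rw [Submodule.mem_comap, hJ]
    exact ha
  obtain ⟨ι, hι⟩ : ∃ ι : (A ⧸ I) →ₗ[A] (V ⧸ J), ι = Submodule.mapQ I J (Algebra.linearMap A V) hIJ :=
    ⟨_, rfl⟩
  have hιinj : Function.Injective ι := by
    rw [injective_iff_map_eq_zero]
    intro q hq
    obtain ⟨a, rfl⟩ := Submodule.Quotient.mk_surjective _ q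
    rw [hι, Submodule.mapQ_apply, Submodule.Quotient.mk_eq_zero] at hq
    rw [Submodule.Quotient.mk_eq_zero, hI]
    rw [hJ] at hq
    exact hq
  have hflat := Module.Flat.rTensor_preserves_injective_linearMap (M := V) ι hιinj
  have hπ : ∀ τ : V ⊗[A] V, (J.mkQ.rTensor V) (τ * β ⊗ₜ[A] (1 : V)) = 0 := by
    intro τ
    induction τ using TensorProduct.induction_on with
    | zero => simp
    | tmul c d =>
      rw [Algebra.TensorProduct.tmul_mul_tmul, LinearMap.rTensor_tmul, Submodule.mkQ_apply]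
      have : (Submodule.Quotient.mk (c * β) : V ⧸ J) = 0 := by
        rw [Submodule.Quotient.mk_eq_zero, hJ]
        exact Ideal.mul_mem_left _ _ (Ideal.subset_span rfl)
      rw [this, TensorProduct.zero_tmul]
    | add a b ha hb => rw [add_mul, map_add, ha, hb, add_zero]
  have hξ : (Submodule.Quotient.mk (1 : A) : A ⧸ I) ⊗ₜ[A] β = 0 := by
    apply hflat
    rw [map_zero, LinearMap.rTensor_tmul, hι, Submodule.mapQ_apply]
    have h1 : (Algebra.linearMap A V) 1 = 1 := by simp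
    rw [h1]
    have h2 : (Submodule.Quotient.mk (1 : V) : V ⧸ J) ⊗ₜ[A] β = (J.mkQ.rTensor V) ((1 : V) ⊗ₜ[A] β) := by
      rw [LinearMap.rTensor_tmul, Submodule.mkQ_apply]
    rw [h2, ← hτ]
    exact hπ τ
  have hmemI : β ∈ I • (⊤ : Submodule A V) := by
    have := congrArg (TensorProduct.quotTensorEquivQuotSMul V I) hξ
    rw [map_zero] at this
    have h3 := TensorProduct.quotTensorEquivQuotSMul_mk_tmul (M := V) I 1 β
    rw [one_smul] at h3
    erw [h3] at this
    exact (Submodule.Quotient.mk_eq_zero _).mp this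
  -- now β ∈ I • ⊤, so β = algebraMap a * z with a ∈ I
  have hex : ∃ a ∈ I, ∃ z : V, β = algebraMap A V a * z := by
    refine Submodule.smul_induction_on hmemI ?_ ?_
    · intro a ha z _
      exact ⟨a, ha, z, by rw [Algebra.smul_def]⟩
    · rintro z1 z2 ⟨a1, ha1, z1', rfl⟩ ⟨a2, ha2, z2', rfl⟩
      rcases ValuationRing.dvd_total a1 a2 with ⟨c, hc⟩ | ⟨c, hc⟩
      · exact ⟨a1, ha1, z1' + algebraMap A V c * z2', by rw [hc, map_mul]; ring⟩
      · exact ⟨a2, ha2, algebraMap A V c * z1' + z2', by rw [hc, map_mul]; ring⟩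
  obtain ⟨a, ha, z, hz⟩ := hex
  rw [hI, Ideal.mem_comap] at ha
  obtain ⟨z', hz'⟩ := Ideal.mem_span_singleton'.mp ha
  have h5 : β * 1 = β * (z' * z) := by
    rw [mul_one]
    conv_lhs => rw [hz, ← hz']
    ring
  have h6 := mul_left_cancel₀ hβ h5
  have hzu : IsUnit z := IsUnit.of_mul_eq_one z' (by rw [mul_comm]; exact h6.symm)
  exact ⟨a, hzu.unit, by rw [hz, IsUnit.unit_spec]; ring⟩

end W

end Groth.Agent.H8.EtVal
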