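import Mathlib
import Groth.Agent.Lib.Helper8.EtVal.Main
import Groth.Agent.Lib.Helper8.Hens.Strict

/-!
# (Strict) henselization of a valuation ring
-/

set_option autoImplicit false
universe u v

namespace Groth.Agent.H8.EtVal

open Groth.Agent.H8.Hens IsLocalRing

/-- A nontrivial algebra over a valuation ring all of whose nonzero elements are unit multiples of
elements of the base is a valuation ring. -/
theorem of_forall_unit_mul {A : Type u} {S : Type v} [CommRing A] [IsDomain A] [ValuationRing A]
    [CommRing S] [Nontrivial S] [Algebra A S] (hinj : Function.Injective (algebraMap A S))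
    (h : ∀ s : S, s ≠ 0 → ∃ (a : A) (w : Sˣ), s = w * algebraMap A S a) :
    IsDomain S ∧ (∀ _ : IsDomain S, ValuationRing S) := by
  have hnzd : NoZeroDivisors S := by
    refine ⟨fun {s t} hst => ?_⟩
    by_contra hne
    push Not at hne
    obtain ⟨a, w, rfl⟩ := h s hne.1
    obtain ⟨a', w', rfl⟩ := h t hne.2
    have h1 : (w * w' : S) * algebraMap A S (a * a') = 0 := by
      rw [map_mul, ← hst]; ring
    have h2 : algebraMap A S (a * a') = 0 := by
      have hu : IsUnit ((w : S) * (w' : S)) := w.isUnit.mul w'.isUnit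
      exact (hu.mul_right_eq_zero).mp h1
    have h3 : a * a' = 0 := hinj (by rw [h2, map_zero])
    rcases mul_eq_zero.mp h3 with h0 | h0
    · exact hne.1 (by rw [h0, map_zero, mul_zero])
    · exact hne.2 (by rw [h0, map_zero, mul_zero])
  haveI hdom : IsDomain S := NoZeroDivisors.to_isDomain S
  refine ⟨hdom, fun _ => ?_⟩
  rw [ValuationRing.iff_dvd_total]
  refine ⟨fun s t => ?_⟩
  by_cases hs : s = 0
  · right; rw [hs]; exact dvd_zero _
  by_cases ht : t = 0
  · left; rw [ht]; exact dvd_zero _
  obtain ⟨a, w, rfl⟩ := h s hs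
  obtain ⟨a', w', rfl⟩ := h t ht
  rcases ValuationRing.dvd_total a a' with ⟨c, hc⟩ | ⟨c, hc⟩
  · left
    refine ⟨↑w⁻¹ * w' * algebraMap A S c, ?_⟩
    rw [hc, map_mul]
    calc (w' : S) * (algebraMap A S a * algebraMap A S c)
        = (w * ↑w⁻¹ : S) * (w' * (algebraMap A S a * algebraMap A S c)) := by
          rw [Units.mul_inv, one_mul]
      _ = w * algebraMap A S a * (↑w⁻¹ * w' * algebraMap A S c) := by ring
  · right
    refine ⟨↑w'⁻¹ * w * algebraMap A S c, ?_⟩
    rw [hc, map_mul]
    calc (w : S) * (algebraMap A S a' * algebraMap A S c)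
        = (w' * ↑w'⁻¹ : S) * (w * (algebraMap A S a' * algebraMap A S c)) := by
          rw [Units.mul_inv, one_mul]
      _ = w' * algebraMap A S a' * (↑w'⁻¹ * w * algebraMap A S c) := by ring

theorem algebraMap_injective_of_flat {A : Type u} {S : Type v} [CommRing A] [IsDomain A]
    [CommRing S] [Nontrivial S] [Algebra A S] [Module.Flat A S] :
    Function.Injective (algebraMap A S) := by
  rw [injective_iff_map_eq_zero]
  intro a ha
  rw [Algebra.algebraMap_eq_smul_one] at ha
  rcases smul_eq_zero.mp ha with h | h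
  · exact h
  · exact absurd h one_ne_zero

section H

variable {A : Type u} [CommRing A] [IsDomain A] [ValuationRing A] {K : Type u} [Field K]
  [Algebra A K] [IsLocalHom (algebraMap A K)]

theorem H_exists_unit_mul (z : H A K) (hz : z ≠ 0) :
    ∃ (a : A) (w : (H A K)ˣ), z = w * algebraMap A (H A K) a := by
  obtain ⟨i, x, rfl⟩ := H.exists_of z
  have hx : x ≠ 0 := fun h => hz (by rw [h, map_zero])
  haveI : Algebra.FormallyUnramified A i.Loc := Algebra.FormallyUnramified.comp A i.Ring _
  haveI : Algebra.EssFiniteType A i.Loc := Algebra.EssFiniteType.comp A i.Ring _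
  obtain ⟨a, w, hw⟩ := exists_unit_mul (A := A) x hx
  refine ⟨a, Units.map (H.of i).toMonoidHom w, ?_⟩
  rw [hw, map_mul, H.algebraMap_eq i a]
  rfl

end H

/-- Transfer along an algebra isomorphism. -/
theorem transfer {A : Type u} {S S' : Type v} [CommRing A] [CommRing S] [CommRing S'] [Algebra A S]
    [Algebra A S'] (e : S ≃ₐ[A] S')
    (h : ∀ s : S, s ≠ 0 → ∃ (a : A) (w : Sˣ), s = w * algebraMap A S a) :
    ∀ s : S', s ≠ 0 → ∃ (a : A) (w : S'ˣ), s = w * algebraMap A S' a := by
  intro s hs
  have hs' : e.symm s ≠ 0 := fun h0 => hs (by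
    have := congrArg e h0
    rwa [AlgEquiv.apply_symm_apply, map_zero] at this)
  obtain ⟨a, w, hw⟩ := h _ hs'
  refine ⟨a, Units.map (e : S →* S') w, ?_⟩
  have := congrArg e hw
  rw [AlgEquiv.apply_symm_apply, map_mul, AlgEquiv.commutes] at this
  exact this

theorem henselization_main (A S : Type u) [CommRing A] [IsDomain A] [ValuationRing A] [CommRing S]
    [IsLocalRing S] [Algebra A S] [IsLocalHom (algebraMap A S)]
    (h : Hensel.IsHenselization A S ∨ Hensel.IsStrictHenselization A S) :
    IsDomain S ∧ (∀ _ : IsDomain S, ValuationRing S) ∧ Function.Injective (algebraMap A S) ∧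
      ∀ s : S, s ≠ 0 → ∃ (a : A) (u : Sˣ), s = u * algebraMap A S a := by
  have hmain : Function.Injective (algebraMap A S) ∧
      ∀ s : S, s ≠ 0 → ∃ (a : A) (u : Sˣ), s = u * algebraMap A S a := by
    rcases h with h | h
    · haveI := h
      haveI : Module.Flat A S := flat_of_isHenselization S
      exact ⟨algebraMap_injective_of_flat,
        transfer (algEquiv (R := A) S) (fun z hz => H_exists_unit_mul z hz)⟩
    · haveI := h
      haveI : Module.Flat A S := flat_of_isStrictHenselization S
      exact ⟨algebraMap_injective_of_flat,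
        transfer (algEquivStrict (R := A) S) (fun z hz => H_exists_unit_mul z hz)⟩
  obtain ⟨hd, hv⟩ := of_forall_unit_mul hmain.1 hmain.2
  exact ⟨hd, hv, hmain.1, hmain.2⟩

end Groth.Agent.H8.EtVal
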