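import Mathlib
import Groth.Agent.Lib.Helper8.EtVal.Hens

/-!
# The Gauss valuation ring `V[T]_{m_V V[T]}`
-/

set_option autoImplicit false
universe u v

namespace Groth.Agent.H8.EtVal

open IsLocalRing

section Gauss

variable (V : Type u) [CommRing V] [IsDomain V] [ValuationRing V] (σ : Type v)

/-- the prime `m_V V[T]`. -/
noncomputable abbrev gIdeal : Ideal (MvPolynomial σ V) := (maximalIdeal V).map (MvPolynomial.C)

instance gIdeal_isPrime : (gIdeal V σ).IsPrime := by
  rw [← Ideal.Quotient.isDomain_iff_prime]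
  exact (MvPolynomial.quotientEquivQuotientMvPolynomial (σ := σ)
    (maximalIdeal V)).symm.toMulEquiv.isDomain (MvPolynomial σ (V ⧸ maximalIdeal V))

variable {V σ}

theorem exists_content (g : MvPolynomial σ V) (hg : g ≠ 0) :
    ∃ (c : V) (g₀ : MvPolynomial σ V), c ≠ 0 ∧ g = MvPolynomial.C c * g₀ ∧ g₀ ∉ gIdeal V σ := by
  classical
  have hne : g.support.Nonempty := by
    rw [Finset.nonempty_iff_ne_empty, Ne, MvPolynomial.support_eq_empty]; exact hg
  obtain ⟨m0, hm0, hdvd⟩ := exists_dvd_all g.support hne (fun m => g.coeff m)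
  have hc : g.coeff m0 ≠ 0 := MvPolynomial.mem_support_iff.mp hm0
  choose! y hy using hdvd
  have hy0 : y m0 = 1 := by
    have := hy m0 hm0
    have h2 : g.coeff m0 * 1 = g.coeff m0 * y m0 := by rw [mul_one]; exact this
    exact (mul_left_cancel₀ hc h2).symm
  refine ⟨g.coeff m0, ∑ m ∈ g.support, MvPolynomial.monomial m (y m), hc, ?_, ?_⟩
  · rw [Finset.mul_sum]
    conv_lhs => rw [← MvPolynomial.support_sum_monomial_coeff g]
    refine Finset.sum_congr rfl fun m hm => ?_
    rw [MvPolynomial.C_mul_monomial, ← hy m hm]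
  · intro hmem
    rw [MvPolynomial.mem_map_C_iff] at hmem
    have h1 := hmem m0
    rw [MvPolynomial.coeff_sum] at h1
    simp only [MvPolynomial.coeff_monomial] at h1
    rw [Finset.sum_ite_eq' g.support m0, if_pos hm0, hy0] at h1
    exact (maximalIdeal.isMaximal V).ne_top ((Ideal.eq_top_iff_one _).mpr h1)

variable (V σ) in
theorem gauss_algebraMap_injective :
    Function.Injective (algebraMap V (Localization.AtPrime (gIdeal V σ))) := by
  have h1 : Function.Injective
      (algebraMap (MvPolynomial σ V) (Localization.AtPrime (gIdeal V σ))) :=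
    IsLocalization.injective (Localization.AtPrime (gIdeal V σ)) (M := (gIdeal V σ).primeCompl)
      (fun x hx => mem_nonZeroDivisors_of_ne_zero (fun h => hx (by rw [h]; exact zero_mem _)))
  have h2 : Function.Injective (algebraMap V (MvPolynomial σ V)) := by
    rw [MvPolynomial.algebraMap_eq]
    exact MvPolynomial.C_injective σ V
  intro a b hab
  rw [IsScalarTower.algebraMap_apply V (MvPolynomial σ V),
    IsScalarTower.algebraMap_apply V (MvPolynomial σ V) _ b] at hab
  exact h2 (h1 hab)

theorem gauss_exists_unit_mul (z : Localization.AtPrime (gIdeal V σ)) (hz : z ≠ 0) :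
    ∃ (c : V) (w : (Localization.AtPrime (gIdeal V σ))ˣ),
      z = w * algebraMap V (Localization.AtPrime (gIdeal V σ)) c := by
  obtain ⟨g, s, rfl⟩ := IsLocalization.exists_mk'_eq (gIdeal V σ).primeCompl z
  have hg : g ≠ 0 := fun h => hz (by rw [h, IsLocalization.mk'_zero])
  obtain ⟨c, g₀, hc, hgc, hg₀⟩ := exists_content g hg
  have hu0 : IsUnit (algebraMap (MvPolynomial σ V) (Localization.AtPrime (gIdeal V σ)) g₀) :=
    IsLocalization.map_units _ (⟨g₀, hg₀⟩ : (gIdeal V σ).primeCompl)
  have hus : IsUnit (algebraMap (MvPolynomial σ V) (Localization.AtPrime (gIdeal V σ)) s) :=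
    IsLocalization.map_units _ s
  refine ⟨c, hu0.unit * hus.unit⁻¹, ?_⟩
  rw [IsLocalization.mk'_eq_iff_eq_mul, Units.val_mul, IsUnit.unit_spec]
  have h1 : algebraMap V (Localization.AtPrime (gIdeal V σ)) c =
      algebraMap (MvPolynomial σ V) (Localization.AtPrime (gIdeal V σ)) (MvPolynomial.C c) := by
    rw [IsScalarTower.algebraMap_apply V (MvPolynomial σ V), MvPolynomial.algebraMap_eq]
  rw [h1, hgc, map_mul]
  have h2 : (↑hus.unit⁻¹ : Localization.AtPrime (gIdeal V σ)) *
      algebraMap (MvPolynomial σ V) (Localization.AtPrime (gIdeal V σ)) s = 1 :=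
    hus.val_inv_mul
  calc algebraMap (MvPolynomial σ V) (Localization.AtPrime (gIdeal V σ)) (MvPolynomial.C c) *
        algebraMap (MvPolynomial σ V) (Localization.AtPrime (gIdeal V σ)) g₀
      = algebraMap (MvPolynomial σ V) _ g₀ * algebraMap (MvPolynomial σ V) _ (MvPolynomial.C c) *
          (↑hus.unit⁻¹ * algebraMap (MvPolynomial σ V) _ s) := by rw [h2]; ring
    _ = _ := by ring

variable (V σ) in
theorem gauss_valuationRing :
    IsDomain (Localization.AtPrime (gIdeal V σ)) ∧
      (∀ _ : IsDomain (Localization.AtPrime (gIdeal V σ)),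
        ValuationRing (Localization.AtPrime (gIdeal V σ))) :=
  of_forall_unit_mul (gauss_algebraMap_injective V σ) (fun z hz => gauss_exists_unit_mul z hz)

end Gauss

end Groth.Agent.H8.EtVal
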