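import Mathlib
import Groth.Agent.Lib.Helper8.EtVal.Gauss

/-!
# Generic points of the special fibre of a smooth algebra over a valuation ring
-/

set_option autoImplicit false
universe u

namespace Groth.Agent.H8.EtVal

open IsLocalRing

set_option maxHeartbeats 1600000 in
theorem smooth_main (V : Type u) [CommRing V] [IsDomain V] [ValuationRing V]
    (A : Type u) [CommRing A] [IsDomain A] [Algebra V A] [Algebra.Smooth V A]
    (p : Ideal A) [p.IsPrime]
    (hp : p ∈ ((maximalIdeal V).map (algebraMap V A)).minimalPrimes) :
    Function.Injective (algebraMap V (Localization.AtPrime p)) ∧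
      IsLocalHom (algebraMap V (Localization.AtPrime p)) ∧
      ∀ x : Localization.AtPrime p, x ≠ 0 →
        ∃ (v : V) (w : (Localization.AtPrime p)ˣ),
          x = w * algebraMap V (Localization.AtPrime p) v := by
  haveI : Algebra.FormallySmooth V (Localization.AtPrime p) :=
    Algebra.FormallySmooth.comp V A (Localization.AtPrime p)
  haveI : Algebra.IsSmoothAt V p := ‹_›
  obtain ⟨f, hfp, n, algPAf, htower, hstd⟩ :=
    Algebra.IsSmoothAt.exists_isStandardEtale_mvPolynomial (R := V) (S := A) (p := p)
  -- abbreviations
  have hfu : IsUnit (algebraMap A (Localization.AtPrime p) f) :=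
    IsLocalization.map_units (Localization.AtPrime p) (⟨f, hfp⟩ : p.primeCompl)
  letI algAfB : Algebra (Localization.Away f) (Localization.AtPrime p) :=
    (IsLocalization.Away.lift (S := Localization.Away f) f hfu).toAlgebra
  haveI t1 : IsScalarTower A (Localization.Away f) (Localization.AtPrime p) :=
    IsScalarTower.of_algebraMap_eq' (IsLocalization.Away.lift_comp f hfu).symm
  letI algPB : Algebra (MvPolynomial (Fin n) V) (Localization.AtPrime p) :=
    ((algebraMap (Localization.Away f) (Localization.AtPrime p)).comp
      (algebraMap (MvPolynomial (Fin n) V) (Localization.Away f))).toAlgebra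
  haveI t2 : IsScalarTower (MvPolynomial (Fin n) V) (Localization.Away f) (Localization.AtPrime p) :=
    IsScalarTower.of_algebraMap_eq' rfl
  haveI t3 : IsScalarTower V (MvPolynomial (Fin n) V) (Localization.AtPrime p) := by
    refine IsScalarTower.of_algebraMap_eq fun v => ?_
    rw [IsScalarTower.algebraMap_apply (MvPolynomial (Fin n) V) (Localization.Away f)
      (Localization.AtPrime p), ← IsScalarTower.algebraMap_apply V (MvPolynomial (Fin n) V)
      (Localization.Away f), IsScalarTower.algebraMap_apply V A (Localization.Away f),
      ← IsScalarTower.algebraMap_apply A (Localization.Away f) (Localization.AtPrime p),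
      ← IsScalarTower.algebraMap_apply V A (Localization.AtPrime p)]
  haveI : Algebra.Etale (MvPolynomial (Fin n) V) (Localization.Away f) := inferInstance
  haveI : Module.Flat (MvPolynomial (Fin n) V) (Localization.Away f) := inferInstance
  -- the primes
  have hcomapA : (maximalIdeal (Localization.AtPrime p)).comap
      (algebraMap A (Localization.AtPrime p)) = p :=
    IsLocalization.AtPrime.comap_maximalIdeal (Localization.AtPrime p) p
  obtain ⟨p'', hp''⟩ : ∃ p'' : Ideal (Localization.Away f),
      p'' = (maximalIdeal (Localization.AtPrime p)).comap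
        (algebraMap (Localization.Away f) (Localization.AtPrime p)) := ⟨_, rfl⟩
  haveI hp''prime : p''.IsPrime := by rw [hp'']; exact Ideal.IsPrime.comap _
  have hp''A : p''.comap (algebraMap A (Localization.Away f)) = p := by
    rw [hp'', Ideal.comap_comap, ← IsScalarTower.algebraMap_eq, hcomapA]
  obtain ⟨q, hqdef⟩ : ∃ q : Ideal (MvPolynomial (Fin n) V),
      q = p''.comap (algebraMap (MvPolynomial (Fin n) V) (Localization.Away f)) := ⟨_, rfl⟩
  haveI hqprime : q.IsPrime := by rw [hqdef]; exact Ideal.IsPrime.comap _
  have hqB : q = (maximalIdeal (Localization.AtPrime p)).comap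
      (algebraMap (MvPolynomial (Fin n) V) (Localization.AtPrime p)) := by
    rw [hqdef, hp'', Ideal.comap_comap, ← IsScalarTower.algebraMap_eq]
  have hVp : ∀ v ∈ maximalIdeal V, algebraMap V A v ∈ p := fun v hv =>
    hp.1.2 (Ideal.mem_map_of_mem _ hv)
  have hle : gIdeal V (Fin n) ≤ q := by
    rw [Ideal.map_le_iff_le_comap]
    intro v hv
    rw [Ideal.mem_comap, hqB, Ideal.mem_comap, ← MvPolynomial.algebraMap_eq,
      ← IsScalarTower.algebraMap_apply V (MvPolynomial (Fin n) V) (Localization.AtPrime p),
      IsScalarTower.algebraMap_apply V A (Localization.AtPrime p), ← Ideal.mem_comap, hcomapA]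
    exact hVp v hv
  haveI : p''.LiesOver q := ⟨hqdef⟩
  obtain ⟨P', hP'le, hP'prime, hP'over⟩ :=
    Ideal.exists_ideal_le_liesOver_of_le (p := gIdeal V (Fin n)) (q := q) p'' hle
  have h1 : (maximalIdeal V).map (algebraMap V A) ≤ P'.comap (algebraMap A (Localization.Away f)) := by
    rw [Ideal.map_le_iff_le_comap]
    intro v hv
    rw [Ideal.mem_comap, Ideal.mem_comap, ← IsScalarTower.algebraMap_apply V A (Localization.Away f),
      IsScalarTower.algebraMap_apply V (MvPolynomial (Fin n) V) (Localization.Away f),
      ← Ideal.mem_comap]
    have h0 := hP'over.over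
    rw [Ideal.under_def] at h0
    rw [← h0, MvPolynomial.algebraMap_eq]
    exact Ideal.mem_map_of_mem _ hv
  have h2 : P'.comap (algebraMap A (Localization.Away f)) ≤ p := by
    rw [← hp''A]; exact Ideal.comap_mono hP'le
  have h3 : P'.comap (algebraMap A (Localization.Away f)) = p :=
    le_antisymm h2 (hp.2 ⟨Ideal.IsPrime.comap _, h1⟩ h2)
  have h4 : P' = p'' := by
    rw [← IsLocalization.map_comap (Submonoid.powers f) (Localization.Away f) P',
      ← IsLocalization.map_comap (Submonoid.powers f) (Localization.Away f) p'',
      show Ideal.under A P' = p from h3, show Ideal.under A p'' = p from hp''A]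
  have hq : q = gIdeal V (Fin n) := by
    have h0 := hP'over.over
    rw [Ideal.under_def, h4, ← hqdef] at h0
    exact h0.symm
  -- the Gauss valuation ring and its map to B
  have hunits : ∀ y : (gIdeal V (Fin n)).primeCompl,
      IsUnit (algebraMap (MvPolynomial (Fin n) V) (Localization.AtPrime p) y) := by
    intro y
    by_contra h
    have h5 : algebraMap (MvPolynomial (Fin n) V) (Localization.AtPrime p) y ∈
        maximalIdeal (Localization.AtPrime p) := (mem_maximalIdeal _).mpr h
    rw [← Ideal.mem_comap, ← hqB, hq] at h5
    exact y.2 h5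
  letI algVTB : Algebra (Localization.AtPrime (gIdeal V (Fin n))) (Localization.AtPrime p) :=
    (IsLocalization.lift (M := (gIdeal V (Fin n)).primeCompl)
      (S := Localization.AtPrime (gIdeal V (Fin n))) hunits).toAlgebra
  haveI t4 : IsScalarTower (MvPolynomial (Fin n) V) (Localization.AtPrime (gIdeal V (Fin n)))
      (Localization.AtPrime p) :=
    IsScalarTower.of_algebraMap_eq' (IsLocalization.lift_comp hunits).symm
  haveI t5 : IsScalarTower V (Localization.AtPrime (gIdeal V (Fin n))) (Localization.AtPrime p) := by
    refine IsScalarTower.of_algebraMap_eq fun v => ?_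
    rw [IsScalarTower.algebraMap_apply V (MvPolynomial (Fin n) V)
      (Localization.AtPrime (gIdeal V (Fin n))),
      ← IsScalarTower.algebraMap_apply (MvPolynomial (Fin n) V)
        (Localization.AtPrime (gIdeal V (Fin n))) (Localization.AtPrime p),
      ← IsScalarTower.algebraMap_apply V (MvPolynomial (Fin n) V) (Localization.AtPrime p)]
  -- injectivity statements
  have hinjAB : Function.Injective (algebraMap A (Localization.AtPrime p)) :=
    IsLocalization.injective (Localization.AtPrime p) (M := p.primeCompl)
      (fun x hx => mem_nonZeroDivisors_of_ne_zero (fun h => hx (by rw [h]; exact zero_mem _)))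
  have hinjAfB : Function.Injective (algebraMap (Localization.Away f) (Localization.AtPrime p)) := by
    rw [injective_iff_map_eq_zero]
    intro x hx
    obtain ⟨a, s, rfl⟩ := IsLocalization.exists_mk'_eq (Submonoid.powers f) x
    have h5 : algebraMap (Localization.Away f) (Localization.AtPrime p)
        (IsLocalization.mk' (Localization.Away f) a s *
          algebraMap A (Localization.Away f) s) = 0 := by
      rw [map_mul, hx, zero_mul]
    rw [IsLocalization.mk'_spec, ← IsScalarTower.algebraMap_apply A (Localization.Away f)
      (Localization.AtPrime p)] at h5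
    have h6 : a = 0 := hinjAB (by rw [h5, map_zero])
    rw [h6, IsLocalization.mk'_zero]
  have hf0 : f ≠ 0 := fun h => hfp (by rw [h]; exact zero_mem _)
  haveI : IsDomain (Localization.Away f) :=
    IsLocalization.isDomain_of_le_nonZeroDivisors (Localization.Away f) (M := Submonoid.powers f)
      (powers_le_nonZeroDivisors_of_noZeroDivisors hf0)
  have hinjPAf : Function.Injective
      (algebraMap (MvPolynomial (Fin n) V) (Localization.Away f)) :=
    algebraMap_injective_of_flat
  have hinjPB : Function.Injective
      (algebraMap (MvPolynomial (Fin n) V) (Localization.AtPrime p)) := by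
    intro a b hab
    rw [IsScalarTower.algebraMap_apply (MvPolynomial (Fin n) V) (Localization.Away f)
      (Localization.AtPrime p), IsScalarTower.algebraMap_apply (MvPolynomial (Fin n) V)
      (Localization.Away f) (Localization.AtPrime p) b] at hab
    exact hinjPAf (hinjAfB hab)
  have hinjVTB : Function.Injective
      (algebraMap (Localization.AtPrime (gIdeal V (Fin n))) (Localization.AtPrime p)) := by
    rw [injective_iff_map_eq_zero]
    intro y hy
    obtain ⟨g, s, rfl⟩ := IsLocalization.exists_mk'_eq (gIdeal V (Fin n)).primeCompl y
    have h5 : algebraMap (Localization.AtPrime (gIdeal V (Fin n))) (Localization.AtPrime p)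
        (IsLocalization.mk' (Localization.AtPrime (gIdeal V (Fin n))) g s *
          algebraMap (MvPolynomial (Fin n) V) (Localization.AtPrime (gIdeal V (Fin n))) s) = 0 := by
      rw [map_mul, hy, zero_mul]
    rw [IsLocalization.mk'_spec, ← IsScalarTower.algebraMap_apply (MvPolynomial (Fin n) V)
      (Localization.AtPrime (gIdeal V (Fin n))) (Localization.AtPrime p)] at h5
    have h6 : g = 0 := hinjPB (by rw [h5, map_zero])
    rw [h6, IsLocalization.mk'_zero]
  -- instances over the Gauss valuation ring
  obtain ⟨hdomVT, hvalVT⟩ := gauss_valuationRing V (Fin n)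
  haveI := hdomVT
  haveI : ValuationRing (Localization.AtPrime (gIdeal V (Fin n))) := hvalVT hdomVT
  haveI : IsDomain (Localization.AtPrime p) :=
    IsLocalization.isDomain_of_le_nonZeroDivisors (Localization.AtPrime p) (M := p.primeCompl)
      (fun x hx => mem_nonZeroDivisors_of_ne_zero (fun h => hx (by rw [h]; exact zero_mem _)))
  haveI : Module.Flat (Localization.AtPrime (gIdeal V (Fin n))) (Localization.AtPrime p) := by
    rw [Module.Flat.flat_iff_torsion_eq_bot_of_isBezout,
      ← Submodule.isTorsionFree_iff_torsion_eq_bot]
    exact Module.isTorsionFree_iff_algebraMap_injective.mpr hinjVTB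
  haveI : Algebra.EssFiniteType (Localization.AtPrime (gIdeal V (Fin n))) (Localization.AtPrime p) :=
    Algebra.EssFiniteType.of_comp V (Localization.AtPrime (gIdeal V (Fin n))) (Localization.AtPrime p)
  haveI : Algebra.FormallyUnramified (Localization.Away f) (Localization.AtPrime p) :=
    Algebra.FormallyUnramified.of_restrictScalars A (Localization.Away f) (Localization.AtPrime p)
  haveI : Algebra.FormallyUnramified (MvPolynomial (Fin n) V) (Localization.AtPrime p) :=
    Algebra.FormallyUnramified.comp (MvPolynomial (Fin n) V) (Localization.Away f)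
      (Localization.AtPrime p)
  haveI : Algebra.FormallyUnramified (Localization.AtPrime (gIdeal V (Fin n)))
      (Localization.AtPrime p) :=
    Algebra.FormallyUnramified.of_restrictScalars (MvPolynomial (Fin n) V)
      (Localization.AtPrime (gIdeal V (Fin n))) (Localization.AtPrime p)
  haveI : IsLocalHom (algebraMap (Localization.AtPrime (gIdeal V (Fin n)))
      (Localization.AtPrime p)) := by
    constructor
    intro y hy
    obtain ⟨g, s, rfl⟩ := IsLocalization.exists_mk'_eq (gIdeal V (Fin n)).primeCompl y
    rw [IsLocalization.AtPrime.isUnit_mk'_iff]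
    intro hg
    have h5 : IsUnit (algebraMap (Localization.AtPrime (gIdeal V (Fin n))) (Localization.AtPrime p)
        (IsLocalization.mk' (Localization.AtPrime (gIdeal V (Fin n))) g s *
          algebraMap (MvPolynomial (Fin n) V) (Localization.AtPrime (gIdeal V (Fin n))) s)) := by
      rw [map_mul]
      refine hy.mul ?_
      rw [← IsScalarTower.algebraMap_apply (MvPolynomial (Fin n) V)
        (Localization.AtPrime (gIdeal V (Fin n))) (Localization.AtPrime p)]
      exact hunits s
    rw [IsLocalization.mk'_spec, ← IsScalarTower.algebraMap_apply (MvPolynomial (Fin n) V)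
      (Localization.AtPrime (gIdeal V (Fin n))) (Localization.AtPrime p)] at h5
    have h6 : g ∈ q := by
      rw [hq]; exact hg
    rw [hqB, Ideal.mem_comap] at h6
    exact (mem_maximalIdeal _).mp h6 h5
  refine ⟨?_, ?_, ?_⟩
  · intro a b hab
    rw [IsScalarTower.algebraMap_apply V (MvPolynomial (Fin n) V) (Localization.AtPrime p),
      IsScalarTower.algebraMap_apply V (MvPolynomial (Fin n) V) (Localization.AtPrime p) b] at hab
    have := hinjPB hab
    rw [MvPolynomial.algebraMap_eq] at this
    exact MvPolynomial.C_injective _ _ this
  · constructor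
    intro v hv
    by_contra hnu
    have h5 : v ∈ maximalIdeal V := (mem_maximalIdeal _).mpr hnu
    have h6 := hVp v h5
    rw [← hcomapA, Ideal.mem_comap, ← IsScalarTower.algebraMap_apply V A (Localization.AtPrime p)] at h6
    exact (mem_maximalIdeal _).mp h6 hv
  · intro x hx
    obtain ⟨y, u, hu⟩ := exists_unit_mul (A := Localization.AtPrime (gIdeal V (Fin n))) x hx
    have hy : y ≠ 0 := fun h => hx (by rw [hu, h, map_zero, mul_zero])
    obtain ⟨c, w, hw⟩ := gauss_exists_unit_mul y hy
    refine ⟨c, u * Units.map (algebraMap (Localization.AtPrime (gIdeal V (Fin n)))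
      (Localization.AtPrime p)).toMonoidHom w, ?_⟩
    rw [hu, hw, map_mul, ← IsScalarTower.algebraMap_apply V (Localization.AtPrime (gIdeal V (Fin n)))
      (Localization.AtPrime p), Units.val_mul, mul_assoc]
    rfl

end Groth.Agent.H8.EtVal
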